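import Mathlib

/-!
# The group `SU₃(2)` coded over four symbols

A kernel-evaluated table: the 216 elements, the map onto the quaternion group and its kernel.
-/

set_option autoImplicit false

namespace CfsgLib.Perm.PSUThreeTwo

/-- The field with four elements. -/
inductive K where
  | o | i | w | v
deriving DecidableEq

/-- addition -/
def K.add : K → K → K
  | .o, b => b
  | a, .o => a
  | .i, .i => .o
  | .i, .w => .v
  | .i, .v => .w
  | .w, .i => .v
  | .w, .w => .o
  | .w, .v => .i
  | .v, .i => .w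
  | .v, .w => .i
  | .v, .v => .o

/-- multiplication -/
def K.mul : K → K → K
  | .o, _ => .o
  | _, .o => .o
  | .i, b => b
  | a, .i => a
  | .w, .w => .v
  | .w, .v => .i
  | .v, .w => .i
  | .v, .v => .w

/-- conjugation -/
def K.bar : K → K
  | .o => .o
  | .i => .i
  | .w => .v
  | .v => .w

/-- vectors -/
structure V3 where
  x : K
  y : K
  z : K
deriving DecidableEq

/-- matrices by columns -/
structure M3 where
  a : V3
  b : V3
  c : V3
deriving DecidableEq

/-- the hermitian form -/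
def herm (u v : V3) : K := ((u.x.mul v.x.bar).add (u.y.mul v.y.bar)).add (u.z.mul v.z.bar)

/-- matrix times vector -/
def M3.app (g : M3) (u : V3) : V3 :=
  ⟨((g.a.x.mul u.x).add (g.b.x.mul u.y)).add (g.c.x.mul u.z),
   ((g.a.y.mul u.x).add (g.b.y.mul u.y)).add (g.c.y.mul u.z),
   ((g.a.z.mul u.x).add (g.b.z.mul u.y)).add (g.c.z.mul u.z)⟩

/-- product -/
def M3.mul (g h : M3) : M3 := ⟨g.app h.a, g.app h.b, g.app h.c⟩

/-- determinant -/
def M3.det (g : M3) : K :=
  (((((g.a.x.mul g.b.y).mul g.c.z).add ((g.a.x.mul g.b.z).mul g.c.y)).add ((g.b.x.mul g.a.y).mul g.c.z)).add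
    ((g.b.x.mul g.a.z).mul g.c.y)).add
    (((g.c.x.mul g.a.y).mul g.b.z).add ((g.c.x.mul g.a.z).mul g.b.y))

/-- inverse of a unitary matrix -/
def M3.star (g : M3) : M3 :=
  ⟨⟨g.a.x.bar, g.b.x.bar, g.c.x.bar⟩, ⟨g.a.y.bar, g.b.y.bar, g.c.y.bar⟩, ⟨g.a.z.bar, g.b.z.bar, g.c.z.bar⟩⟩

/-- scalar matrices -/
def scalar (k : K) : M3 := ⟨⟨k, .o, .o⟩, ⟨.o, k, .o⟩, ⟨.o, .o, k⟩⟩

/-- unit vectors -/
def units : List V3 :=
  ([K.o, .i, .w, .v].flatMap fun x => [K.o, .i, .w, .v].flatMap fun y => [K.o, .i, .w, .v].map fun z =>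
    V3.mk x y z).filter fun u => herm u u == .i

/-- the special unitary group -/
def elems : List M3 :=
  units.flatMap fun a => (units.filter fun b => herm a b == .o).flatMap fun b =>
    ((units.filter fun c => herm a c == .o && herm b c == .o).map fun c => M3.mk a b c).filter
      fun g => g.det == .i

/-- monomial with cyclic pattern -/
def M3.inKer (g : M3) : Bool :=
  (g.a.y == .o && g.a.z == .o && g.b.x == .o && g.b.z == .o && g.c.x == .o && g.c.y == .o) ||
  (g.a.x == .o && g.a.z == .o && g.b.x == .o && g.b.y == .o && g.c.y == .o && g.c.z == .o) ||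
  (g.a.x == .o && g.a.y == .o && g.b.y == .o && g.b.z == .o && g.c.x == .o && g.c.z == .o)

/-- coset representatives with their images -/
def reps : List (QuaternionGroup 2 × M3) :=
  [(.a 0, scalar .i),
   (.a 1, ⟨⟨.i, .i, .i⟩, ⟨.i, .w, .v⟩, ⟨.i, .v, .w⟩⟩),
   (.a 2, ⟨⟨.o, .o, .i⟩, ⟨.o, .i, .o⟩, ⟨.i, .o, .o⟩⟩),
   (.a 3, ⟨⟨.i, .i, .i⟩, ⟨.i, .v, .w⟩, ⟨.i, .w, .v⟩⟩),
   (.xa 0, ⟨⟨.i, .i, .w⟩, ⟨.i, .w, .i⟩, ⟨.v, .w, .w⟩⟩),
   (.xa 1, ⟨⟨.i, .i, .v⟩, ⟨.i, .w, .w⟩, ⟨.w, .i, .w⟩⟩),
   (.xa 2, ⟨⟨.i, .i, .w⟩, ⟨.i, .v, .v⟩, ⟨.v, .i, .v⟩⟩),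
   (.xa 3, ⟨⟨.i, .i, .v⟩, ⟨.i, .v, .i⟩, ⟨.w, .v, .v⟩⟩)]

/-- the map onto the quaternion group -/
def rho (g : M3) : QuaternionGroup 2 :=
  match reps.find? fun r => (r.2.star.mul g).inKer with
  | some r => r.1
  | none => .a 0

/-- generators of the kernel and the representatives -/
def steps : List M3 := reps.map (·.2) ++ elems.filter M3.inKer

theorem elems_length : elems.length = 216 := by decide +kernel

theorem elems_nodup : elems.Nodup := by
  refine List.Nodup.of_map (fun g => g) ?_
  decide +kernel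

theorem scalar_mem : ([K.i, .w, .v].all fun k => elems.contains (scalar k)) = true := by decide +kernel

theorem elems_form : (elems.all fun g => g.det == .i &&
    herm g.a g.a == .i && herm g.b g.b == .i && herm g.c g.c == .i && herm g.a g.b == .o &&
    herm g.b g.a == .o && herm g.a g.c == .o && herm g.c g.a == .o && herm g.b g.c == .o &&
    herm g.c g.b == .o) = true := by decide +kernel

theorem rho_steps : (steps.all fun s => elems.all fun g => rho (g.mul s) == rho g * rho s) = true := by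
  decide +kernel

theorem elems_decomp : (elems.all fun g => reps.any fun r =>
    (elems.filter M3.inKer).any fun n => r.2.mul n == g) = true := by decide +kernel

theorem rho_reps : (reps.all fun r => rho r.2 == r.1 && elems.contains r.2) = true := by decide +kernel

theorem scalar_central : ([K.i, .w, .v].all fun k => (rho (scalar k) == .a 0) &&
    elems.all fun g => (scalar k).mul g == g.mul (scalar k)) = true := by decide +kernel

theorem central_scalar : (elems.all fun g =>
    !(steps.all fun s => g.mul s == s.mul g) || [K.i, .w, .v].any fun k => g == scalar k) = true := by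
  decide +kernel

theorem steps_mem : (steps.all fun s => elems.contains s) = true := by decide +kernel

theorem ker_cube : (elems.all fun g => !(rho g == .a 0) ||
    [K.i, .w, .v].any fun k => (g.mul g).mul g == scalar k) = true := by decide +kernel

theorem quaternion_prime_power : ∀ x : QuaternionGroup 2, (x * x = 1 → x = .a 0 ∨ x = .a 2) ∧
    x ^ 8 = 1 := by decide +kernel

end CfsgLib.Perm.PSUThreeTwo
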