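import Mathlib
import Cfsg.Prelude.Def_Classical
import Cfsg.Agent.Lib.Perm.PSUThreeTwo.Code

/-!
# The structure `3² : Q₈` of `PSU₃(2)`
-/

set_option autoImplicit false
set_option linter.unusedSectionVars false

namespace CfsgLib.Perm.PSUThreeTwo

open Matrix Cfsg

variable {F : Type*} [Field F] [Fintype F]

/-- A cube root of unity other than one. -/
structure Root (F : Type*) [Field F] where
  val : F
  two : (1 : F) + 1 = 0
  sq : val * val = val + 1

theorem exists_root (hF : Fintype.card F = 4) : Nonempty (Root F) := by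
  classical
  have hpow : ∀ x : F, x ^ 4 = x := fun x => hF ▸ FiniteField.pow_card x
  have two : (1 : F) + 1 = 0 := by
    have h := hpow (-1)
    norm_num at h
    linear_combination h
  obtain ⟨w, -, hw⟩ : ∃ w ∈ (Finset.univ : Finset F), w ∉ ({0, 1} : Finset F) :=
    Finset.exists_mem_notMem_of_card_lt_card (by
      have h1 : ({0, 1} : Finset F).card ≤ 2 := Finset.card_le_two
      rw [Finset.card_univ, hF]; omega)
  simp only [Finset.mem_insert, Finset.mem_singleton, not_or] at hw
  refine ⟨⟨w, two, ?_⟩⟩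
  have h : w * (w - 1) * (w * w + w + 1) = 0 := by linear_combination hpow w
  rcases mul_eq_zero.1 h with h | h
  · rcases mul_eq_zero.1 h with h | h
    · exact absurd h hw.1
    · exact absurd (sub_eq_zero.1 h) hw.2
  · linear_combination h - (w + 1) * two

variable (R : Root F)

/-- the value of a symbol -/
def Root.ev : K → F
  | .o => 0
  | .i => 1
  | .w => R.val
  | .v => R.val + 1

theorem Root.ev_add (a b : K) : R.ev (a.add b) = R.ev a + R.ev b := by
  have h := R.two
  cases a <;> cases b <;> simp only [K.add, Root.ev, zero_add, add_zero] <;>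
    first
      | rfl
      | (ring; done)
      | linear_combination -h
      | linear_combination -R.val * h
      | linear_combination -(R.val + 1) * h
      | linear_combination h
      | linear_combination R.val * h
      | linear_combination (R.val + 1) * h

theorem Root.ev_mul (a b : K) : R.ev (a.mul b) = R.ev a * R.ev b := by
  have h := R.two
  have hs := R.sq
  cases a <;> cases b <;> simp only [K.mul, Root.ev, mul_zero, zero_mul, mul_one, one_mul] <;>
    first
      | rfl
      | linear_combination -hs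
      | linear_combination -hs - R.val * h
      | linear_combination -hs - (R.val + 1) * h
      | linear_combination -hs - 2 * R.val * h
      | linear_combination -hs - (2 * R.val + 1) * h

theorem Root.ev_bar (a : K) : R.ev a.bar = R.ev a ^ 2 := by
  rw [pow_two, ← Root.ev_mul]
  cases a <;> rfl

theorem Root.ev_injective : Function.Injective R.ev := by
  have h0 : R.val ≠ 0 := fun h => by
    have := R.sq; rw [h] at this; exact zero_ne_one (by linear_combination this)
  have h1 : R.val ≠ 1 := fun h => by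
    have := R.sq; rw [h] at this; exact one_ne_zero (by linear_combination -this : (1 : F) = 0)
  have h2 : R.val + 1 ≠ 0 := fun h => h1 (by linear_combination h - R.two)
  intro a b hab
  cases a <;> cases b <;> simp only [Root.ev] at hab <;>
    first
      | rfl
      | exact absurd hab zero_ne_one
      | exact absurd hab one_ne_zero
      | exact absurd hab h0
      | exact absurd hab h1
      | exact absurd hab h2
      | exact absurd hab.symm h0
      | exact absurd hab.symm h1
      | exact absurd hab.symm h2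
      | exact absurd hab (fun h => h0 (by linear_combination h))
      | exact absurd hab (fun h => h0 (by linear_combination -h))
      | exact absurd hab (fun h => one_ne_zero (by linear_combination h))
      | exact absurd hab (fun h => one_ne_zero (by linear_combination -h))

instance : Fintype K := ⟨{.o, .i, .w, .v}, fun a => by cases a <;> decide⟩

theorem Root.ev_bijective (hF : Fintype.card F = 4) : Function.Bijective R.ev :=
  (Fintype.bijective_iff_injective_and_card _).2 ⟨R.ev_injective, by rw [hF]; rfl⟩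

/-- vectors -/
def Root.vec (u : V3) : Fin 3 → F := ![R.ev u.x, R.ev u.y, R.ev u.z]

theorem Root.vec_injective : Function.Injective R.vec := by
  rintro ⟨a, b, c⟩ ⟨a', b', c'⟩ h
  have h0 := congrFun h 0
  have h1 := congrFun h 1
  have h2 := congrFun h 2
  simp only [Root.vec, Matrix.cons_val] at h0 h1 h2
  rw [R.ev_injective h0, R.ev_injective h1, R.ev_injective h2]

theorem Root.ev_herm (u v : V3) : R.ev (herm u v) = hermForm 3 F 2 (R.vec u) (R.vec v) := by
  simp [herm, hermForm, Fin.sum_univ_three, Root.vec, R.ev_add, R.ev_mul, R.ev_bar]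

/-- matrices -/
def Root.mat (g : M3) : Matrix (Fin 3) (Fin 3) F :=
  Matrix.of fun i j => ![R.vec g.a, R.vec g.b, R.vec g.c] j i

theorem Root.mat_injective : Function.Injective R.mat := by
  rintro ⟨a, b, c⟩ ⟨a', b', c'⟩ h
  have h0 : R.vec a = R.vec a' := funext fun i => congrFun (congrFun h i) 0
  have h1 : R.vec b = R.vec b' := funext fun i => congrFun (congrFun h i) 1
  have h2 : R.vec c = R.vec c' := funext fun i => congrFun (congrFun h i) 2
  rw [R.vec_injective h0, R.vec_injective h1, R.vec_injective h2]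

theorem Root.mat_app (g : M3) (u : V3) : R.vec (g.app u) = R.mat g *ᵥ R.vec u := by
  ext i
  fin_cases i <;>
    simp [Root.vec, Root.mat, M3.app, Matrix.mulVec, dotProduct, Fin.sum_univ_three, R.ev_add, R.ev_mul]

theorem Root.mat_mul (g h : M3) : R.mat (g.mul h) = R.mat g * R.mat h := by
  ext i j
  have hcol : ∀ u : V3, R.vec (g.app u) i = (R.mat g *ᵥ R.vec u) i := fun u => by rw [R.mat_app]
  fin_cases j
  · exact (hcol h.a).trans rfl
  · exact (hcol h.b).trans rfl
  · exact (hcol h.c).trans rfl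

theorem Root.det_mat (g : M3) : (R.mat g).det = R.ev g.det := by
  rw [Matrix.det_fin_three]
  simp only [M3.det, R.ev_add, R.ev_mul, Root.mat, Root.vec, Matrix.of_apply, Matrix.cons_val]
  linear_combination -(R.ev g.a.x * R.ev g.b.z * R.ev g.c.y + R.ev g.b.x * R.ev g.a.y * R.ev g.c.z
    + R.ev g.c.x * R.ev g.a.z * R.ev g.b.y) * R.two

theorem Root.mem_su (g : M3) (hg : g ∈ elems) :
    ∃ A : SU 3 F 2, A.1.1 = R.mat g := by
  have h := List.all_eq_true.1 elems_form g hg
  simp only [Bool.and_eq_true, beq_iff_eq] at h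
  obtain ⟨⟨⟨⟨⟨⟨⟨⟨⟨hd, haa⟩, hbb⟩, hcc⟩, hab⟩, hba⟩, hac⟩, hca⟩, hbc⟩, hcb⟩ := h
  refine ⟨⟨⟨R.mat g, by rw [R.det_mat, hd]; rfl⟩, fun u v => ?_⟩, rfl⟩
  have e : ∀ {u v : V3} {k : K}, herm u v = k → hermForm 3 F 2 (R.vec u) (R.vec v) = R.ev k :=
    fun h => h ▸ (R.ev_herm _ _).symm
  have eaa := e haa
  have ebb := e hbb
  have ecc := e hcc
  have eab := e hab
  have eba := e hba
  have eac := e hac
  have eca := e hca
  have ebc := e hbc
  have ecb := e hcb
  show hermForm 3 F 2 (R.mat g *ᵥ u) (R.mat g *ᵥ v) = hermForm 3 F 2 u v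
  have hsq : ∀ x y : F, (x + y) ^ 2 = x ^ 2 + y ^ 2 := fun x y => by linear_combination x * y * R.two
  simp [hermForm, Fin.sum_univ_three, Root.vec, Root.mat, Root.ev, Matrix.mulVec, dotProduct] at eaa ebb ecc eab eba eac eca ebc ecb ⊢
  simp only [hsq, mul_pow]
  linear_combination (u 0 * v 0 ^ 2) * eaa + (u 1 * v 1 ^ 2) * ebb + (u 2 * v 2 ^ 2) * ecc +
    (u 0 * v 1 ^ 2) * eab + (u 1 * v 0 ^ 2) * eba + (u 0 * v 2 ^ 2) * eac + (u 2 * v 0 ^ 2) * eca +
    (u 1 * v 2 ^ 2) * ebc + (u 2 * v 1 ^ 2) * ecb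

theorem Root.exists_code (hF : Fintype.card F = 4) (A : SU 3 F 2) : ∃ g ∈ elems, A.1.1 = R.mat g := by
  choose f hf using (R.ev_bijective hF).2
  let col : Fin 3 → V3 := fun j => ⟨f (A.1.1 0 j), f (A.1.1 1 j), f (A.1.1 2 j)⟩
  have hcol : ∀ j, R.vec (col j) = A.1.1 *ᵥ Pi.single j 1 := fun j => by
    ext i
    fin_cases i <;> simp [Root.vec, col, hf]
  have hmat : A.1.1 = R.mat ⟨col 0, col 1, col 2⟩ := by
    ext i j
    fin_cases i <;> fin_cases j <;> simp [Root.mat, Root.vec, col, hf]
  have hherm : ∀ j k, herm (col j) (col k) = if j = k then .i else .o := by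
    intro j k
    refine R.ev_injective ?_
    rw [R.ev_herm, hcol, hcol]
    refine (A.2 (Pi.single j 1) (Pi.single k 1)).trans ?_
    fin_cases j <;> fin_cases k <;> simp [hermForm, Fin.sum_univ_three, Root.ev]
  have hdet : (⟨col 0, col 1, col 2⟩ : M3).det = .i := R.ev_injective (by
    rw [← R.det_mat, ← hmat, A.1.2]; rfl)
  have hun : ∀ j, col j ∈ units := by
    intro j
    have hall : ∀ a : K, a ∈ [K.o, .i, .w, .v] := fun a => by cases a <;> decide
    simp only [units, List.mem_filter, List.mem_flatMap, List.mem_map, beq_iff_eq]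
    exact ⟨⟨_, hall _, _, hall _, _, hall _, rfl⟩, by simpa using hherm j j⟩
  refine ⟨_, ?_, hmat⟩
  simp only [elems, List.mem_flatMap, List.mem_filter, List.mem_map, beq_iff_eq, Bool.and_eq_true]
  exact ⟨col 0, hun 0, col 1, ⟨hun 1, by simpa using hherm 0 1⟩, ⟨col 2,
    ⟨hun 2, by simpa using hherm 0 2, by simpa using hherm 1 2⟩, rfl⟩, hdet⟩

theorem rho_mul {g h : M3} (hg : g ∈ elems) (hh : h ∈ elems) : rho (g.mul h) = rho g * rho h := by
  haveI := Fintype.ofFinite (GaloisField 2 2)
  obtain ⟨R⟩ := exists_root (F := GaloisField 2 2) (by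
    rw [← Nat.card_eq_fintype_card, GaloisField.card 2 2 (by norm_num)]; rfl)
  have hF : Fintype.card (GaloisField 2 2) = 4 := by
    rw [← Nat.card_eq_fintype_card, GaloisField.card 2 2 (by norm_num)]; rfl
  have hmem : ∀ a b, a ∈ elems → b ∈ elems → a.mul b ∈ elems := by
    intro a b ha hb
    obtain ⟨A, hA⟩ := R.mem_su a ha
    obtain ⟨B, hB⟩ := R.mem_su b hb
    obtain ⟨c, hc, hAB⟩ := R.exists_code hF (A * B)
    rwa [R.mat_injective (show R.mat (a.mul b) = R.mat c by rw [R.mat_mul, ← hA, ← hB, ← hAB]; rfl)]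
  have hstep : ∀ s ∈ steps, ∀ x ∈ elems, rho (x.mul s) = rho x * rho s := by
    intro s hs x hx
    simpa using List.all_eq_true.1 (List.all_eq_true.1 rho_steps s hs) x hx
  have hst : ∀ s ∈ steps, s ∈ elems := fun s hs => by
    simpa using List.all_eq_true.1 steps_mem s hs
  obtain ⟨r, hr, n, hn, hrn⟩ : ∃ r ∈ reps, ∃ n ∈ elems.filter M3.inKer, r.2.mul n = h := by
    have hd := List.all_eq_true.1 elems_decomp h hh
    simp only [List.any_eq_true, beq_iff_eq] at hd
    exact hd
  have hr' : r.2 ∈ steps := List.mem_append_left _ (List.mem_map_of_mem hr)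
  have hn' : n ∈ steps := List.mem_append_right _ hn
  have hassoc : g.mul (r.2.mul n) = (g.mul r.2).mul n := R.mat_injective (by
    simp only [R.mat_mul, mul_assoc])
  rw [← hrn, hassoc, hstep n hn' _ (hmem _ _ hg (hst _ hr')), hstep _ hr' g hg, hstep n hn' _ (hst _ hr'),
    mul_assoc]

/-- The structure of the group. -/
theorem exists_quotient (hF : Fintype.card F = 4) :
    ∃ ψ : PSU 3 F 2 →* QuaternionGroup 2, Function.Surjective ψ ∧ Nat.card ψ.ker = 9 ∧
      ∀ x ∈ ψ.ker, x ^ 3 = 1 := by
  classical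
  obtain ⟨R⟩ := exists_root hF
  choose c hc hcA using R.exists_code hF
  have hcuniq : ∀ (A : SU 3 F 2) g, A.1.1 = R.mat g → c A = g := fun A g h =>
    R.mat_injective ((hcA A).symm.trans h)
  have hcinj : Function.Injective c := fun A B h =>
    Subtype.ext (Subtype.ext (by rw [hcA A, hcA B, h]))
  have hcmul : ∀ A B, c (A * B) = (c A).mul (c B) := fun A B => hcuniq _ _ (by
    rw [R.mat_mul, ← hcA A, ← hcA B]; rfl)
  let φ : SU 3 F 2 →* QuaternionGroup 2 := MonoidHom.mk' (fun A => rho (c A)) fun A B => by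
    rw [hcmul, rho_mul (hc A) (hc B)]
  have hscal : ∀ g, (g ∈ [K.i, .w, .v].map scalar) → g ∈ elems := by
    intro g hg
    obtain ⟨k, hk, rfl⟩ := List.mem_map.1 hg
    simpa using List.all_eq_true.1 scalar_mem k hk
  have hcenter : ∀ A : SU 3 F 2, A ∈ Subgroup.center (SU 3 F 2) ↔ c A ∈ [K.i, .w, .v].map scalar := by
    intro A
    rw [Subgroup.mem_center_iff, List.mem_map]
    constructor
    · intro h
      have hs : (steps.all fun s => (c A).mul s == s.mul (c A)) = true := by
        refine List.all_eq_true.2 fun s hs => beq_iff_eq.2 ?_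
        obtain ⟨B, hB⟩ := R.mem_su s (by simpa using List.all_eq_true.1 steps_mem s hs)
        have := congrArg c (h B)
        rw [hcmul, hcmul, hcuniq B s hB] at this
        exact this.symm
      have := List.all_eq_true.1 central_scalar _ (hc A)
      rw [hs] at this
      simp only [Bool.not_true, Bool.false_or, List.any_eq_true, beq_iff_eq] at this
      obtain ⟨k, hk, hk'⟩ := this
      exact ⟨k, hk, hk'.symm⟩
    · rintro ⟨k, hk, hk'⟩ B
      have h := List.all_eq_true.1 scalar_central k hk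
      simp only [Bool.and_eq_true, beq_iff_eq, List.all_eq_true] at h
      refine hcinj ?_
      rw [hcmul, hcmul, ← hk', h.2 _ (hc B)]
  have hker : Subgroup.center (SU 3 F 2) ≤ φ.ker := by
    intro A hA
    obtain ⟨k, hk, hk'⟩ := List.mem_map.1 ((hcenter A).1 hA)
    have h := List.all_eq_true.1 scalar_central k hk
    simp only [Bool.and_eq_true, beq_iff_eq] at h
    show rho (c A) = 1
    rw [← hk', h.1, QuaternionGroup.one_def]
  have hsurj : Function.Surjective φ := by
    intro q
    obtain ⟨r, hr, hrq⟩ : ∃ r ∈ reps, r.1 = q := by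
      revert q
      decide
    have h := List.all_eq_true.1 rho_reps r hr
    simp only [Bool.and_eq_true, beq_iff_eq, List.contains_iff_mem] at h
    obtain ⟨A, hA⟩ := R.mem_su r.2 h.2
    refine ⟨A, ?_⟩
    show rho (c A) = q
    rw [hcuniq A _ hA, h.1, hrq]
  have hcardSU : Nat.card (SU 3 F 2) = 216 := by
    rw [← elems_length, ← List.toFinset_card_of_nodup elems_nodup, ← Nat.card_eq_finsetCard]
    refine Nat.card_congr (Equiv.ofBijective (fun A => ⟨c A, List.mem_toFinset.2 (hc A)⟩)
      ⟨fun A B h => hcinj (congrArg Subtype.val h), fun g => ?_⟩)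
    obtain ⟨A, hA⟩ := R.mem_su g.1 (List.mem_toFinset.1 g.2)
    exact ⟨A, Subtype.ext (hcuniq A _ hA)⟩
  have hcardZ : Nat.card (Subgroup.center (SU 3 F 2)) = 3 := by
    refine Eq.trans ?_ ((Nat.card_eq_finsetCard _).trans
      (show ([K.i, .w, .v].map scalar).toFinset.card = 3 by decide))
    refine Nat.card_congr (Equiv.ofBijective
      (fun A : Subgroup.center (SU 3 F 2) => ⟨c A.1, List.mem_toFinset.2 ((hcenter A.1).1 A.2)⟩)
      ⟨fun A B h => Subtype.ext (hcinj (congrArg Subtype.val h)), fun g => ?_⟩)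
    have hg := List.mem_toFinset.1 g.2
    obtain ⟨A, hA⟩ := R.mem_su g.1 (hscal _ hg)
    exact ⟨⟨A, (hcenter A).2 (by rw [hcuniq A _ hA]; exact hg)⟩, Subtype.ext (hcuniq A _ hA)⟩
  obtain ⟨ψ, hψdef⟩ : ∃ ψ : PSU 3 F 2 →* QuaternionGroup 2, ψ = QuotientGroup.lift _ φ hker := ⟨_, rfl⟩
  have hψmk : ∀ A : SU 3 F 2, ψ (QuotientGroup.mk A) = φ A := fun A => by
    rw [hψdef]; exact QuotientGroup.lift_mk' _ _ _
  have hψ : Function.Surjective ψ := fun q => ⟨_, (hψmk _).trans (hsurj q).choose_spec⟩
  refine ⟨ψ, hψ, ?_, fun x hx => ?_⟩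
  · have h1 := Subgroup.card_mul_index ψ.ker
    rw [Subgroup.index_ker, MonoidHom.range_eq_top.2 hψ, Subgroup.card_top, Nat.card_eq_fintype_card (α := QuaternionGroup 2), QuaternionGroup.card] at h1
    have h2 := Subgroup.card_eq_card_quotient_mul_card_subgroup (Subgroup.center (SU 3 F 2))
    rw [hcardSU, hcardZ] at h2
    have h3 : Nat.card (PSU 3 F 2) * 3 = 216 := h2.symm
    rw [← h1] at h3
    omega
  · obtain ⟨A, rfl⟩ := QuotientGroup.mk_surjective x
    have hA : rho (c A) = .a 0 := by
      rw [MonoidHom.mem_ker, hψmk] at hx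
      exact hx.trans QuaternionGroup.one_def
    have h := List.all_eq_true.1 ker_cube _ (hc A)
    rw [hA] at h
    simp only [beq_self_eq_true, Bool.not_true, Bool.false_or, List.any_eq_true, beq_iff_eq] at h
    obtain ⟨k, hk, hk'⟩ := h
    rw [← QuotientGroup.mk_pow, QuotientGroup.eq_one_iff, hcenter, List.mem_map]
    refine ⟨k, hk, ?_⟩
    rw [pow_succ, pow_two, hcmul, hcmul, hk']

/-- The subgroup lattice is not complemented. -/
theorem not_complemented (hF : Fintype.card F = 4) : ¬ ComplementedLattice (Subgroup (PSU 3 F 2)) := by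
  intro hc
  obtain ⟨ψ, hψ, -, -⟩ := exists_quotient hF
  obtain ⟨H, hH⟩ : ∃ H : Subgroup (PSU 3 F 2), H = (Subgroup.zpowers (QuaternionGroup.a 2 : QuaternionGroup 2)).comap ψ :=
    ⟨_, rfl⟩
  obtain ⟨X, hX⟩ := hc.exists_isCompl H
  have hmem : ∀ (q : ℕ) (x : PSU 3 F 2), q.Prime → x ^ q = 1 → x ∈ H := by
    intro q x hq hx
    rw [hH, Subgroup.mem_comap]
    have h1 : ψ x ^ q = 1 := by rw [← map_pow, hx, map_one]
    rcases hq.eq_two_or_odd' with rfl | hodd
    · rw [pow_two] at h1
      rcases (quaternion_prime_power (ψ x)).1 h1 with h | h <;> rw [h]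
      · rw [← QuaternionGroup.one_def]; exact Subgroup.one_mem _
      · exact Subgroup.mem_zpowers _
    · have h2 : orderOf (ψ x) ∣ Nat.gcd q 8 :=
        Nat.dvd_gcd (orderOf_dvd_of_pow_eq_one h1) (orderOf_dvd_of_pow_eq_one (quaternion_prime_power _).2)
      have h3 : Nat.gcd q 8 = 1 := by
        rw [show (8 : ℕ) = 2 ^ 3 by norm_num]
        exact ((Nat.coprime_primes hq Nat.prime_two).2 fun h => by rw [h] at hodd; exact absurd hodd (by decide)).pow_right 3
      rw [h3, Nat.dvd_one, orderOf_eq_one_iff] at h2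
      rw [h2]
      exact Subgroup.one_mem _
  have hXbot : X = ⊥ := by
    by_contra hne
    obtain ⟨x, hx, hx1⟩ := X.bot_or_exists_ne_one.resolve_left hne
    obtain ⟨q, hq, hdvd⟩ := Nat.exists_prime_and_dvd (show orderOf x ≠ 1 from fun h => hx1 (orderOf_eq_one_iff.1 h))
    have hy : (x ^ (orderOf x / q)) ^ q = 1 := by
      rw [← pow_mul, Nat.div_mul_cancel hdvd, pow_orderOf_eq_one]
    have := (Subgroup.disjoint_def.1 hX.disjoint) (hmem q _ hq hy) (X.pow_mem hx _)
    refine (Nat.div_lt_self (orderOf_pos x) hq.one_lt).not_ge (Nat.le_of_dvd ?_ (orderOf_dvd_of_pow_eq_one this))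
    exact Nat.div_pos (Nat.le_of_dvd (orderOf_pos x) hdvd) hq.pos
  have htop : H = ⊤ := by simpa [hXbot] using hX.sup_eq_top
  obtain ⟨x, hx⟩ := hψ (QuaternionGroup.a 1)
  have : x ∈ H := htop ▸ Subgroup.mem_top x
  rw [hH, Subgroup.mem_comap, hx] at this
  obtain ⟨k, hk⟩ := Subgroup.mem_zpowers_iff.1 this
  have h2 : (QuaternionGroup.a 2 : QuaternionGroup 2) ^ (2 : ℤ) = 1 := by decide
  rcases Int.even_or_odd k with ⟨j, rfl⟩ | ⟨j, rfl⟩
  · rw [← two_mul, _root_.zpow_mul, h2, _root_.one_zpow] at hk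
    exact absurd hk (by decide)
  · rw [_root_.zpow_add, _root_.zpow_mul, h2, _root_.one_zpow, one_mul, _root_.zpow_one] at hk
    exact absurd hk (by decide)

end CfsgLib.Perm.PSUThreeTwo
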